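import Mathlib
import Groth.Agent.MvPSTrunc.Basic

/-! Congruences, substitution and fixed points in rings of power series in finitely many variables. -/

set_option autoImplicit false
universe u

namespace Groth.Agent.MorseLib

open MvPowerSeries

variable {A : Type u} [CommRing A] {n : ℕ}

/-- The augmentation ideal. -/
noncomputable abbrev aug (A : Type u) [CommRing A] (n : ℕ) : Ideal (MvPowerSeries (Fin n) A) :=
  RingHom.ker (MvPowerSeries.constantCoeff : MvPowerSeries (Fin n) A →+* A)

theorem X_mem (i : Fin n) : (X i : MvPowerSeries (Fin n) A) ∈ aug A n := constantCoeff_X i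

theorem coeff_eq_zero_of_mem_pow : ∀ (N : ℕ) (r : MvPowerSeries (Fin n) A), r ∈ aug A n ^ N →
    ∀ d, Finsupp.degree d < N → coeff d r = 0 := by
  classical
  intro N
  induction N with
  | zero => intro r _ d hd; omega
  | succ N ih =>
    intro r hr d hd
    rw [pow_succ'] at hr
    induction hr using Submodule.mul_induction_on' with
    | mem_mul_mem f hf g hg =>
      rw [coeff_mul]
      refine Finset.sum_eq_zero fun p hp => ?_
      rw [Finset.HasAntidiagonal.mem_antidiagonal] at hp
      by_cases h0 : p.1 = 0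
      · rw [h0, coeff_zero_eq_constantCoeff_apply, show constantCoeff f = 0 from hf, zero_mul]
      · have hpos : 0 < Finsupp.degree p.1 := Nat.pos_of_ne_zero fun h => h0 ((Finsupp.degree_eq_zero_iff _).mp h)
        have hdeg : Finsupp.degree p.1 + Finsupp.degree p.2 = Finsupp.degree d := by rw [← map_add, hp]
        rw [ih g hg p.2 (by omega), mul_zero]
    | add f _ g _ hf hg => rw [map_add, hf, hg, add_zero]

theorem mem_pow_iff (N : ℕ) (r : MvPowerSeries (Fin n) A) :
    r ∈ aug A n ^ N ↔ ∀ d, Finsupp.degree d < N → coeff d r = 0 :=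
  ⟨coeff_eq_zero_of_mem_pow N r, MvPSTrunc.mem_pow_ker_constantCoeff N r⟩

theorem eq_zero_of_forall_mem_pow (r : MvPowerSeries (Fin n) A) (h : ∀ N, r ∈ aug A n ^ N) : r = 0 :=
  MvPowerSeries.ext fun d => by
    simpa using coeff_eq_zero_of_mem_pow _ r (h (Finsupp.degree d + 1)) d (Nat.lt_succ_self _)

theorem aug_eq_span : aug A n = Ideal.span (Set.range (X : Fin n → MvPowerSeries (Fin n) A)) := by
  classical
  refine le_antisymm (fun r hr => ?_) (Ideal.span_le.mpr ?_)
  · have h0 : ∀ d, Finsupp.degree d < 1 → coeff d r = 0 := fun d hd => by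
      have : d = 0 := (Finsupp.degree_eq_zero_iff _).mp (by omega)
      subst this
      rw [coeff_zero_eq_constantCoeff_apply]
      exact hr
    have hkey : ∀ (s : Finset (Fin n)) (f : MvPowerSeries (Fin n) A),
        (∀ d : Fin n →₀ ℕ, (∀ i ∈ s, d i = 0) → coeff d f = 0) →
          f ∈ Ideal.span (Set.range (X : Fin n → MvPowerSeries (Fin n) A)) := by
      intro s
      induction s using Finset.induction with
      | empty => intro f hf; rw [show f = 0 from MvPowerSeries.ext fun d => hf d (by simp)]; exact Ideal.zero_mem _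
      | insert i s hi ih =>
        intro f hf
        let g : MvPowerSeries (Fin n) A := fun e => coeff (e + Finsupp.single i 1) f
        have hg : ∀ e, coeff e g = coeff (e + Finsupp.single i 1) f := fun e => rfl
        have hXg : ∀ d, coeff d (X i * g) = if d i = 0 then 0 else coeff d f := fun d => by
          rw [X_def, coeff_monomial_mul, one_mul]
          by_cases hd : d i = 0
          · rw [if_pos hd, if_neg]
            rw [Finsupp.single_le_iff]; omega
          · have h1 : Finsupp.single i 1 ≤ d := Finsupp.single_le_iff.mpr (Nat.one_le_iff_ne_zero.mpr hd)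
            rw [if_neg hd, if_pos h1, hg, tsub_add_cancel_of_le h1]
        have h2 : f = X i * g + (f - X i * g) := by ring
        rw [h2]
        refine Ideal.add_mem _ (Ideal.mul_mem_right _ _ (Ideal.subset_span ⟨i, rfl⟩)) (ih _ fun d hd => ?_)
        rw [map_sub, hXg]
        by_cases hd0 : d i = 0
        · rw [if_pos hd0, sub_zero]
          exact hf d fun j hj => by
            rcases Finset.mem_insert.mp hj with rfl | hj
            · exact hd0
            · exact hd j hj
        · rw [if_neg hd0, sub_self]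
    refine hkey Finset.univ r fun d hd => h0 d ?_
    rw [show d = 0 from Finsupp.ext fun i => hd i (Finset.mem_univ i)]
    simp
  · rintro _ ⟨i, rfl⟩
    exact X_mem i

theorem exists_decomp (s : ℕ) (r : MvPowerSeries (Fin n) A) (hr : r ∈ aug A n ^ (s + 1)) :
    ∃ g : Fin n → MvPowerSeries (Fin n) A, (∀ i, g i ∈ aug A n ^ s) ∧ r = ∑ i, g i * X i := by
  rw [pow_succ] at hr
  have h2 : r ∈ (aug A n ^ s) • Submodule.span (MvPowerSeries (Fin n) A)
      (Set.range (X : Fin n → MvPowerSeries (Fin n) A)) := by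
    rw [Ideal.smul_eq_mul]
    rw [show (Submodule.span (MvPowerSeries (Fin n) A) (Set.range (X : Fin n → MvPowerSeries (Fin n) A))) = aug A n
      from aug_eq_span.symm]
    exact hr
  obtain ⟨a, ha, rfl⟩ := (Submodule.mem_ideal_smul_span_iff_exists_sum _ _ _).mp h2
  exact ⟨a, ha, Finsupp.sum_fintype _ _ fun i => by simp⟩

/-- Decomposition along linear forms with unit determinant. -/
theorem exists_decomp_linear (P : Matrix (Fin n) (Fin n) A) (hP : IsUnit P.det) (s : ℕ)
    (r : MvPowerSeries (Fin n) A) (hr : r ∈ aug A n ^ (s + 1)) :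
    ∃ g : Fin n → MvPowerSeries (Fin n) A, (∀ i, g i ∈ aug A n ^ s) ∧
      r = ∑ i, g i * ∑ j, C (P i j) * X j := by
  classical
  obtain ⟨g, hg, rfl⟩ := exists_decomp s r hr
  refine ⟨fun l => ∑ i, g i * C (P⁻¹ i l), fun l => Ideal.sum_mem _ fun i _ => Ideal.mul_mem_right _ _ (hg i), ?_⟩
  have hinv : ∀ i j, ∑ l, P⁻¹ i l * P l j = if i = j then 1 else 0 := fun i j => by
    rw [← Matrix.mul_apply, Matrix.nonsing_inv_mul P hP, Matrix.one_apply]
  have hX : ∀ i, ∑ l, C (P⁻¹ i l) * ∑ j, C (P l j) * X j = (X i : MvPowerSeries (Fin n) A) := fun i => by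
    simp only [Finset.mul_sum, ← mul_assoc, ← map_mul]
    rw [Finset.sum_comm]
    simp only [← Finset.sum_mul]
    have h2 : ∀ j, ∑ l, (C (P⁻¹ i l) * C (P l j) : MvPowerSeries (Fin n) A) = C (if i = j then 1 else 0) := fun j => by
      rw [← hinv i j, map_sum]; simp only [map_mul]
    simp [h2, apply_ite (C : A →+* MvPowerSeries (Fin n) A)]
  calc ∑ i, g i * X i = ∑ i, g i * ∑ l, C (P⁻¹ i l) * ∑ j, C (P l j) * X j := by simp only [hX]
    _ = ∑ i, ∑ l, g i * C (P⁻¹ i l) * ∑ j, C (P l j) * X j := by
        simp only [Finset.mul_sum, mul_assoc]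
    _ = ∑ l, ∑ i, g i * C (P⁻¹ i l) * ∑ j, C (P l j) * X j := Finset.sum_comm
    _ = _ := Finset.sum_congr rfl fun l _ => (Finset.sum_mul _ _ _).symm

section Subst

variable {a b : Fin n → MvPowerSeries (Fin n) A}

theorem hasSubst_of_mem (ha : ∀ i, a i ∈ aug A n) : HasSubst a :=
  hasSubst_of_constantCoeff_zero ha

theorem map_aug_le (ha : ∀ i, a i ∈ aug A n) :
    (aug A n).map (substAlgHom (R := A) (hasSubst_of_mem ha)) ≤ aug A n := by
  conv_lhs => rw [aug_eq_span, Ideal.map_span]
  rw [Ideal.span_le]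
  rintro _ ⟨_, ⟨i, rfl⟩, rfl⟩
  simp only [substAlgHom_X]
  exact ha i

theorem subst_mem_pow (ha : ∀ i, a i ∈ aug A n) {N : ℕ} {f : MvPowerSeries (Fin n) A}
    (hf : f ∈ aug A n ^ N) : substAlgHom (R := A) (hasSubst_of_mem ha) f ∈ aug A n ^ N := by
  have h := Ideal.mem_map_of_mem (substAlgHom (R := A) (hasSubst_of_mem ha)) hf
  rw [Ideal.map_pow] at h
  exact Ideal.pow_right_mono (map_aug_le ha) N h

/-- Congruent substitutions agree modulo the same power. -/
theorem subst_congr (ha : ∀ i, a i ∈ aug A n) (hb : ∀ i, b i ∈ aug A n) {N : ℕ}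
    (hab : ∀ i, a i - b i ∈ aug A n ^ N) (f : MvPowerSeries (Fin n) A) :
    substAlgHom (R := A) (hasSubst_of_mem ha) f - substAlgHom (R := A) (hasSubst_of_mem hb) f ∈ aug A n ^ N := by
  set p : MvPolynomial (Fin n) A := truncTotal N f
  have ht := MvPSTrunc.sub_truncTotal_mem N f
  have hpoly : MvPolynomial.aeval a p - MvPolynomial.aeval b p ∈ aug A n ^ N := by
    rw [← Ideal.Quotient.mk_eq_mk_iff_sub_mem]
    have : (Ideal.Quotient.mkₐ A (aug A n ^ N)).comp (MvPolynomial.aeval a) =
        (Ideal.Quotient.mkₐ A (aug A n ^ N)).comp (MvPolynomial.aeval b) := by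
      refine MvPolynomial.algHom_ext fun i => ?_
      simp only [AlgHom.comp_apply, MvPolynomial.aeval_X, Ideal.Quotient.mkₐ_eq_mk,
        Ideal.Quotient.mk_eq_mk_iff_sub_mem]
      exact hab i
    exact AlgHom.congr_fun this p
  have hsplit : ∀ (c : Fin n → MvPowerSeries (Fin n) A) (hc : ∀ i, c i ∈ aug A n),
      substAlgHom (R := A) (hasSubst_of_mem hc) f - MvPolynomial.aeval c p ∈ aug A n ^ N := fun c hc => by
    rw [← substAlgHom_coe (hasSubst_of_mem hc), ← map_sub]
    exact subst_mem_pow hc ht
  have := Ideal.add_mem _ (Ideal.sub_mem _ (hsplit a ha) (hsplit b hb)) hpoly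
  convert this using 1
  ring

/-- Sharper congruence for series of higher order. -/
theorem subst_congr_pow (ha : ∀ i, a i ∈ aug A n) (hb : ∀ i, b i ∈ aug A n) {N : ℕ}
    (hab : ∀ i, a i - b i ∈ aug A n ^ (N + 1)) : ∀ (s : ℕ) (f : MvPowerSeries (Fin n) A),
    f ∈ aug A n ^ s →
      substAlgHom (R := A) (hasSubst_of_mem ha) f - substAlgHom (R := A) (hasSubst_of_mem hb) f ∈
        aug A n ^ (N + s) := by
  intro s
  induction s with
  | zero =>
    intro f _
    exact Ideal.pow_le_pow_right (Nat.le_succ N) (subst_congr ha hb hab f)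
  | succ s ih =>
    intro f hf
    obtain ⟨g, hg, rfl⟩ := exists_decomp s f hf
    simp only [map_sum, map_mul, substAlgHom_X, ← Finset.sum_sub_distrib]
    refine Ideal.sum_mem _ fun i _ => ?_
    rw [show substAlgHom (R := A) (hasSubst_of_mem ha) (g i) * a i - substAlgHom (R := A) (hasSubst_of_mem hb) (g i) * b i =
      substAlgHom (R := A) (hasSubst_of_mem ha) (g i) * (a i - b i) +
        (substAlgHom (R := A) (hasSubst_of_mem ha) (g i) - substAlgHom (R := A) (hasSubst_of_mem hb) (g i)) * b i by ring]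
    refine Ideal.add_mem _ ?_ ?_
    · have := Ideal.mul_mem_mul (subst_mem_pow ha (hg i)) (hab i)
      rwa [← pow_add, show s + (N + 1) = N + (s + 1) by omega] at this
    · have := Ideal.mul_mem_mul (ih _ (hg i)) (hb i)
      rwa [← pow_succ, add_assoc] at this

end Subst

/-- A contraction on finite families of power series has a fixed point. -/
theorem exists_fixed {ι : Type*} (s : ℕ) (Φ : (ι → MvPowerSeries (Fin n) A) → ι → MvPowerSeries (Fin n) A)
    (hdom : ∀ u, (∀ i, u i ∈ aug A n ^ s) → ∀ i, Φ u i ∈ aug A n ^ s)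
    (hcon : ∀ u v, (∀ i, u i ∈ aug A n ^ s) → (∀ i, v i ∈ aug A n ^ s) → ∀ N, (∀ i, u i - v i ∈ aug A n ^ N) →
      ∀ i, Φ u i - Φ v i ∈ aug A n ^ (N + 1)) :
    ∃ u, (∀ i, u i ∈ aug A n ^ s) ∧ Φ u = u := by
  let it : ℕ → ι → MvPowerSeries (Fin n) A := fun N => Φ^[N] 0
  have hs : ∀ N i, it N i ∈ aug A n ^ s := by
    intro N
    induction N with
    | zero => intro i; exact Ideal.zero_mem _
    | succ N ih => intro i; simp only [it, Function.iterate_succ_apply']; exact hdom _ ih i
  have hstep : ∀ N i, it (N + 1) i - it N i ∈ aug A n ^ N := by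
    intro N
    induction N with
    | zero => intro i; simp
    | succ N ih =>
      intro i
      simp only [it, Function.iterate_succ_apply'] at ih ⊢
      refine hcon _ _ ?_ (hs N) N ih i
      exact hdom _ (hs N)
  have hlong : ∀ N k i, it (N + k) i - it N i ∈ aug A n ^ N := by
    intro N k i
    induction k with
    | zero => simp
    | succ k ih =>
      have := Ideal.add_mem _ (Ideal.pow_le_pow_right (Nat.le_add_right N k) (hstep (N + k) i)) ih
      simpa [add_assoc] using this
  let u : ι → MvPowerSeries (Fin n) A := fun i d => coeff d (it (Finsupp.degree d + 1) i)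
  have hu : ∀ N i, u i - it N i ∈ aug A n ^ N := fun N i => by
    refine (mem_pow_iff N _).mpr fun d hd => ?_
    have h := coeff_eq_zero_of_mem_pow _ _ (hlong (Finsupp.degree d + 1) (N - (Finsupp.degree d + 1)) i) d
      (Nat.lt_succ_self _)
    rw [show Finsupp.degree d + 1 + (N - (Finsupp.degree d + 1)) = N by omega, map_sub, sub_eq_zero] at h
    rw [map_sub, h]
    exact sub_self _
  have hus : ∀ i, u i ∈ aug A n ^ s := fun i => by
    simpa using Ideal.add_mem _ (hu s i) (hs s i)
  refine ⟨u, hus, funext fun i => sub_eq_zero.mp (eq_zero_of_forall_mem_pow _ fun N => ?_)⟩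
  have h1 := Ideal.pow_le_pow_right (Nat.le_succ N) (hcon u (it N) hus (hs N) N (hu N) i)
  have h2 := Ideal.pow_le_pow_right (Nat.le_succ N) (hu (N + 1) i)
  have := Ideal.sub_mem _ h1 h2
  simp only [it, Function.iterate_succ_apply'] at this
  convert this using 1
  ring

end Groth.Agent.MorseLib
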