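import Mathlib
import Groth.Agent.MorseLib.PowerSeries
import Groth.Prelude.Def_QuadSing

/-! The Morse lemma for power series over an arbitrary ring. -/

set_option autoImplicit false
set_option maxHeartbeats 1000000
universe u

namespace Groth.Agent.MorseLib

open MvPowerSeries VanCyc

variable {A : Type u} [CommRing A] {n : ℕ}

/-- The linear forms `∂Q/∂xᵢ`. -/
noncomputable abbrev grad (q : Fin n → Fin n → A) (i : Fin n) : MvPowerSeries (Fin n) A :=
  ∑ j, C (polarMatrix q i j) * X j

/-- The quadratic form evaluated at a tuple of series. -/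
noncomputable abbrev qv (q : Fin n → Fin n → A) (v : Fin n → MvPowerSeries (Fin n) A) :
    MvPowerSeries (Fin n) A :=
  ∑ i, ∑ j, (if i ≤ j then C (q i j) else 0) * v i * v j

theorem coe_quadPoly (q : Fin n → Fin n → A) :
    ((quadPoly q : MvPolynomial (Fin n) A) : MvPowerSeries (Fin n) A) = qv q X := by
  unfold quadPoly qv
  rw [← MvPolynomial.coeToMvPowerSeries.ringHom_apply, map_sum]
  refine Finset.sum_congr rfl fun i _ => ?_
  rw [map_sum]
  refine Finset.sum_congr rfl fun j _ => ?_
  split_ifs <;> simp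

theorem qv_add (q : Fin n → Fin n → A) (v : Fin n → MvPowerSeries (Fin n) A) :
    qv q (X + v) = qv q X + ∑ l, v l * grad q l + qv q v := by
  classical
  have hP : ∀ l r, C (polarMatrix q l r) =
      ((if l ≤ r then C (q l r) else 0) + (if r ≤ l then C (q r l) else 0) : MvPowerSeries (Fin n) A) := fun l r => by
    rcases lt_trichotomy l r with h | h | h
    · simp [polarMatrix, h.ne, h, h.le, h.not_ge]
    · subst h; simp [polarMatrix, two_mul]
    · simp [polarMatrix, h.ne', h.not_gt, h.le, h.not_ge]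
  have hmid : ∑ l, v l * grad q l =
      ∑ i, ∑ j, ((if i ≤ j then C (q i j) else 0) * X i * v j + (if i ≤ j then C (q i j) else 0) * v i * X j) := by
    simp only [grad, hP, Finset.mul_sum, add_mul, mul_add, Finset.sum_add_distrib]
    rw [add_comm]
    refine congrArg₂ (· + ·) ?_ ?_
    · rw [Finset.sum_comm]
      exact Finset.sum_congr rfl fun i _ => Finset.sum_congr rfl fun j _ => by ring
    · exact Finset.sum_congr rfl fun i _ => Finset.sum_congr rfl fun j _ => by ring
  rw [hmid]
  simp only [qv, Pi.add_apply, ← Finset.sum_add_distrib]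
  exact Finset.sum_congr rfl fun i _ => Finset.sum_congr rfl fun j _ => by ring

theorem map_qv (q : Fin n → Fin n → A) (φ : MvPowerSeries (Fin n) A →ₐ[A] MvPowerSeries (Fin n) A)
    (v : Fin n → MvPowerSeries (Fin n) A) : φ (qv q v) = qv q (fun i => φ (v i)) := by
  simp only [qv, map_sum, map_mul]
  refine Finset.sum_congr rfl fun i _ => Finset.sum_congr rfl fun j _ => ?_
  split_ifs
  · rw [MvPowerSeries.c_eq_algebraMap, AlgHom.commutes]
  · rw [map_zero]

/-- Morse lemma. -/
theorem morse (m : ℕ) (hm : 2 ≤ m) (q : Fin n → Fin n → A) (hq : QuadNondeg q) (a : A)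
    (F : MvPowerSeries (Fin n) A) (hF : F - (qv q X + C a) ∈ aug A n ^ (m + 1)) :
    ∃ h : Fin n → MvPowerSeries (Fin n) A, (∀ i, h i ∈ aug A n ^ m) ∧
      ∃ hh : HasSubst (fun i => X i + h i),
        substAlgHom (R := A) hh F = qv q X + C a ∧ Function.Bijective (substAlgHom (R := A) hh) := by
  classical
  have hP : IsUnit (polarMatrix q).det := hq
  set G := F - (qv q X + C a) with hG
  obtain ⟨g, hg, hgG⟩ := exists_decomp_linear (polarMatrix q) hP m G hF
  have hdec := fun l => exists_decomp_linear (polarMatrix q) hP (m - 1) (g l)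
    (by rw [show m - 1 + 1 = m by omega]; exact hg l)
  choose G' hG' hgl using hdec
  have hs1 : aug A n ^ (m - 1) ≤ aug A n := Ideal.pow_le_self (by omega)
  have hgrad : ∀ i, grad q i ∈ aug A n := fun i =>
    Ideal.sum_mem _ fun j _ => Ideal.mul_mem_left _ _ (X_mem j)
  let cq : Fin n → Fin n → MvPowerSeries (Fin n) A := fun i j => if i ≤ j then C (q i j) else 0
  let Φ : (Fin n × Fin n → MvPowerSeries (Fin n) A) → Fin n × Fin n → MvPowerSeries (Fin n) A :=
    fun K lr => G' lr.1 lr.2 - ∑ i, ∑ j, cq i j * K (i, lr.1) * K (j, lr.2)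
  obtain ⟨K, hK, hfix⟩ := exists_fixed (m - 1) Φ
    (fun u hu lr => Ideal.sub_mem _ (hG' _ _) (Ideal.sum_mem _ fun i _ => Ideal.sum_mem _ fun j _ =>
      Ideal.mul_mem_left _ _ (hu _)))
    (fun u v hu hv N huv lr => by
      simp only [Φ, sub_sub_sub_cancel_left, ← Finset.sum_sub_distrib]
      refine Ideal.sum_mem _ fun i _ => Ideal.sum_mem _ fun j _ => ?_
      rw [show cq i j * v (i, lr.1) * v (j, lr.2) - cq i j * u (i, lr.1) * u (j, lr.2) =
        -(cq i j * ((u (i, lr.1) - v (i, lr.1)) * u (j, lr.2) + (u (j, lr.2) - v (j, lr.2)) * v (i, lr.1))) by ring]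
      refine Submodule.neg_mem _ (Ideal.mul_mem_left _ _ (Ideal.add_mem _ ?_ ?_)) <;> rw [pow_succ]
      · exact Ideal.mul_mem_mul (huv _) (hs1 (hu _))
      · exact Ideal.mul_mem_mul (huv _) (hs1 (hv _)))
  let k : Fin n → MvPowerSeries (Fin n) A := fun i => ∑ r, K (i, r) * grad q r
  have hk : ∀ i, k i ∈ aug A n ^ m := fun i => Ideal.sum_mem _ fun r _ => by
    have := Ideal.mul_mem_mul (hK (i, r)) (hgrad r)
    rwa [← pow_succ, show m - 1 + 1 = m by omega] at this
  have hkdef : ∀ i, k i = ∑ r, K (i, r) * grad q r := fun _ => rfl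
  clear_value k
  have hsolve : ∑ l, k l * grad q l + qv q k = G := by
    have hqk : qv q k = ∑ l, (∑ i, ∑ j, cq i j * K (i, l) * k j) * grad q l := by
      simp only [Finset.sum_mul]
      rw [Finset.sum_comm]
      refine Finset.sum_congr rfl fun i _ => ?_
      rw [Finset.sum_comm]
      refine Finset.sum_congr rfl fun j _ => ?_
      rw [hkdef i, Finset.mul_sum, Finset.sum_mul]
      exact Finset.sum_congr rfl fun l _ => by ring
    have hl : ∀ l, k l + ∑ i, ∑ j, cq i j * K (i, l) * k j = g l := fun l => by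
      have hfx : ∀ r, K (l, r) + ∑ i, ∑ j, cq i j * K (i, l) * K (j, r) = G' l r := fun r => by
        have := congrFun hfix (l, r)
        rw [← this]
        simp only [Φ, sub_add_cancel]
      have h2 : ∑ i, ∑ j, cq i j * K (i, l) * k j =
          ∑ r, (∑ i, ∑ j, cq i j * K (i, l) * K (j, r)) * grad q r := by
        simp only [Finset.sum_mul]
        rw [eq_comm, Finset.sum_comm]
        refine Finset.sum_congr rfl fun i _ => ?_
        rw [Finset.sum_comm]
        refine Finset.sum_congr rfl fun j _ => ?_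
        rw [hkdef j, Finset.mul_sum]
        exact Finset.sum_congr rfl fun r _ => by ring
      rw [h2, hkdef l, ← Finset.sum_add_distrib, hgl l]
      exact Finset.sum_congr rfl fun r _ => by rw [← add_mul, hfx]
    rw [hqk, ← Finset.sum_add_distrib, hgG]
    exact Finset.sum_congr rfl fun l _ => by rw [← add_mul, hl]
  have hm1 : aug A n ^ m ≤ aug A n := Ideal.pow_le_self (by omega)
  have hXh : ∀ u : Fin n → MvPowerSeries (Fin n) A, (∀ i, u i ∈ aug A n ^ m) →
      ∀ i, X i + u i ∈ aug A n := fun u hu i => Ideal.add_mem _ (X_mem i) (hm1 (hu i))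
  let Φ₂ : (Fin n → MvPowerSeries (Fin n) A) → Fin n → MvPowerSeries (Fin n) A :=
    fun u i => -subst (fun j => X j + u j) (k i)
  obtain ⟨h, hh, hfix₂⟩ := exists_fixed m Φ₂
    (fun u hu i => by
      simp only [Φ₂, ← substAlgHom_apply (hasSubst_of_mem (hXh u hu))]
      exact Submodule.neg_mem _ (subst_mem_pow (hXh u hu) (hk i)))
    (fun u v hu hv N huv i => by
      simp only [Φ₂, ← substAlgHom_apply (hasSubst_of_mem (hXh u hu)),
        ← substAlgHom_apply (hasSubst_of_mem (hXh v hv)), neg_sub_neg]
      rcases N with _ | N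
      · refine Ideal.pow_le_pow_right (show 0 + 1 ≤ m by omega) ?_
        exact Ideal.sub_mem _ (subst_mem_pow (hXh v hv) (hk i)) (subst_mem_pow (hXh u hu) (hk i))
      · refine Ideal.pow_le_pow_right (show N + 1 + 1 ≤ N + m by omega) ?_
        refine subst_congr_pow (hXh v hv) (hXh u hu) (fun j => ?_) m (k i) (hk i)
        rw [add_sub_add_left_eq_sub, ← neg_sub]
        exact Submodule.neg_mem _ (huv j))
  refine ⟨h, hh, hasSubst_of_mem (hXh h hh), ?_⟩
  set φ := substAlgHom (R := A) (hasSubst_of_mem (hXh h hh)) with hφ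
  have hφk : ∀ i, φ (k i) = -h i := fun i => by
    have := congrFun hfix₂ i
    simp only [Φ₂] at this
    rw [← this, neg_neg, hφ, substAlgHom_apply]
  have hφX : ∀ i, φ (X i + k i) = X i := fun i => by
    rw [map_add, hφk, hφ, substAlgHom_X]
    abel
  have hFeq : F = qv q (X + k) + C a := by
    rw [qv_add, add_assoc (qv q X), hsolve, hG]
    abel
  refine ⟨?_, ?_, ?_⟩
  · rw [hFeq, map_add, map_qv, MvPowerSeries.c_eq_algebraMap, AlgHom.commutes]
    simp only [Pi.add_apply, hφX]
  · refine (injective_iff_map_eq_zero _).mpr fun f hf => eq_zero_of_forall_mem_pow f fun N => ?_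
    induction N with
    | zero => simp
    | succ N ih =>
      have := subst_congr_pow (a := fun i => X i + h i) (b := X) (hXh h hh) X_mem (N := 1)
        (fun i => by simpa using Ideal.pow_le_pow_right hm (hh i)) N f ih
      rw [← hφ, hf, substAlgHom_apply, MvPowerSeries.subst_self, id, zero_sub, add_comm] at this
      simpa using Submodule.neg_mem _ this
  · intro f
    refine ⟨substAlgHom (R := A) (hasSubst_of_mem (hXh k hk)) f, ?_⟩
    rw [hφ, substAlgHom_apply, substAlgHom_apply,
      MvPowerSeries.subst_comp_subst_apply (hasSubst_of_mem (hXh k hk)) (hasSubst_of_mem (hXh h hh))]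
    have : (fun i => subst (fun j => X j + h j) (X i + k i)) = (X : Fin n → MvPowerSeries (Fin n) A) := by
      funext i
      rw [← substAlgHom_apply (hasSubst_of_mem (hXh h hh))]
      exact hφX i
    rw [this, MvPowerSeries.subst_self, id]

end Groth.Agent.MorseLib
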